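import Cfsg.Agent.H819.U33.Words
import Cfsg.Agent.H819.U33.Trip

/-!
# S5525: the final glue (helper524)

`main_of` : the triple property of the Baby Monster from the boxes D, E, F, C, I (type I), II (type II) and the link words.
-/

set_option autoImplicit false

namespace Cfsg.Agent.H524.U33

open Cfsg.Agent.H819.U33

/-- the conclusion for one triple -/
def Cen {K : Type*} [Group K] (u y x : K) : Prop := ∃ c : K, c ≠ 1 ∧ c * u = u * c ∧ c * y = y * c ∧ c * x = x * c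

theorem Cen.conj {K : Type*} [Group K] {u y x k : K} (h : Cen (k * u * k⁻¹) (k * y * k⁻¹) (k * x * k⁻¹)) : Cen u y x := by
  obtain ⟨c, hc, h1, h2, h3⟩ := h
  have key : ∀ v : K, c * (k * v * k⁻¹) = k * v * k⁻¹ * c → k⁻¹ * c * k * v = v * (k⁻¹ * c * k) := by
    intro v hv
    calc k⁻¹ * c * k * v = k⁻¹ * (c * (k * v * k⁻¹)) * k := by group
      _ = k⁻¹ * (k * v * k⁻¹ * c) * k := by rw [hv]
      _ = v * (k⁻¹ * c * k) := by group
  refine ⟨k⁻¹ * c * k, ?_, key u h1, key y h2, key x h3⟩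
  intro h0
  apply hc
  calc c = k * (k⁻¹ * c * k) * k⁻¹ := by group
    _ = 1 := by rw [h0]; group

theorem trip_conj {K : Type*} [Group K] {u y x : K} (h : Trip u y x) (k : K) :
    Trip (k * u * k⁻¹) (k * y * k⁻¹) (k * x * k⁻¹) := by
  have := h.conj k⁻¹
  simpa using this

/-- **the final glue**. `u₀ = g wu`, `f₀ = g wf`, `y₀ = g wy`; `y₁`, `pA`, `pB`, `P₁`: the frame of the 3B-local part
(`y₁ = g wy1`, `pA = e 0`, `pB = nf y₁ e vB 0`, `P₁ = PP y₁ e`); `x27`: the element of type I; `c`, `l`, `s`: link words. -/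
theorem main_of {y1 pA pB x27 c l s : G} {P1 : Subgroup G}
    -- D
    (hD : ∀ {u y x : G}, Trip u y x → ∃ k : G, k * u * k⁻¹ = g wu ∧ (k * y * k⁻¹ = g wf ∨ k * y * k⁻¹ = g wy))
    (hfy : ¬ IsConj (g wf) (g wy))
    -- E
    (hE : ∀ {u y x : G}, Trip u y x → IsConj x (g wy))
    -- F
    (hF : ∀ {u y x : G}, Trip u y x → IsConj x y1 → ∃ k : G, k * x * k⁻¹ = y1 ∧ (k * y * k⁻¹ = pA ∨ k * y * k⁻¹ = pB))
    (hP : ∀ k : G, k * y1 = y1 * k → ∀ p ∈ P1, k * p * k⁻¹ ∈ P1)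
    -- link words
    (hc : c⁻¹ * g wy * c = y1)
    (hl1 : l⁻¹ * y1 * l = x27) (hl2 : l⁻¹ * pA * l = g wf)
    (hs1 : s⁻¹ * pB * s = y1) (hs2 : s⁻¹ * y1 * s ∈ P1)
    -- C
    (hC : ∀ m : G, m * g wf = g wf * m → ∃ i : ℕ, ∃ h ∈ XX, m = g wf ^ i * h)
    -- type I
    (hI : ∀ h ∈ XX, Trip (g wu) (g wf) (h⁻¹ * x27 * h) → Cen (g wu) (g wf) (h⁻¹ * x27 * h))
    -- type II
    (hII : ∀ p ∈ P1, Trip (g wu) (g wy) (c * p * c⁻¹) → Cen (g wu) (g wy) (c * p * c⁻¹)) :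
    ∀ u y x : G, Trip u y x → Cen u y x := by
  have hy1 : IsConj (g wy) y1 := isConj_iff.2 ⟨c⁻¹, by rw [inv_inv]; exact hc⟩
  have hpA : IsConj (g wf) pA := (isConj_iff.2 ⟨l⁻¹, by rw [inv_inv]; exact hl2⟩ : IsConj pA (g wf)).symm
  have hpB : IsConj pB y1 := isConj_iff.2 ⟨s⁻¹, by rw [inv_inv]; exact hs1⟩
  intro u y x h
  obtain ⟨k, hu, hy⟩ := hD h
  apply Cen.conj (k := k)
  have h2 := trip_conj h k
  rw [hu] at h2 ⊢
  generalize k * x * k⁻¹ = x at h2 ⊢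
  have hxc : IsConj x y1 := (hE h2).trans hy1
  obtain ⟨j, hjx, hjy⟩ := hF h2 hxc
  rcases hy with hy | hy
  · -- type I
    rw [hy] at h2 hjy ⊢
    have hjA : j * g wf * j⁻¹ = pA := by
      rcases hjy with hjy | hjy
      · exact hjy
      · exact absurd ((isConj_iff.2 ⟨j, hjy⟩ : IsConj (g wf) pB).trans (hpB.trans hy1.symm)) hfy
    have hcom : (l⁻¹ * j) * g wf = g wf * (l⁻¹ * j) := by
      have : (l⁻¹ * j) * g wf * (l⁻¹ * j)⁻¹ = g wf := by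
        calc (l⁻¹ * j) * g wf * (l⁻¹ * j)⁻¹ = l⁻¹ * (j * g wf * j⁻¹) * l := by group
          _ = g wf := by rw [hjA, hl2]
      exact mul_inv_eq_iff_eq_mul.1 this
    obtain ⟨i, m, hm, hm2⟩ := hC _ hcom
    have hx : x = (l⁻¹ * j)⁻¹ * x27 * (l⁻¹ * j) := by
      rw [← hl1, ← hjx]
      group
    -- `x27` commutes with `f₀`
    have hxf : x27 * g wf = g wf * x27 := by
      have e1 : x27 = (l⁻¹ * j) * x * (l⁻¹ * j)⁻¹ := by rw [hx]; group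
      have e2 : g wf = (l⁻¹ * j) * g wf * (l⁻¹ * j)⁻¹ := by rw [hcom]; group
      rw [e1]
      conv_lhs => rw [e2]
      conv_rhs => rw [e2]
      calc (l⁻¹ * j) * x * (l⁻¹ * j)⁻¹ * ((l⁻¹ * j) * g wf * (l⁻¹ * j)⁻¹)
          = (l⁻¹ * j) * (x * g wf) * (l⁻¹ * j)⁻¹ := by group
        _ = (l⁻¹ * j) * (g wf * x) * (l⁻¹ * j)⁻¹ := by rw [h2.xy]
        _ = (l⁻¹ * j) * g wf * (l⁻¹ * j)⁻¹ * ((l⁻¹ * j) * x * (l⁻¹ * j)⁻¹) := by group
    have hfi : (g wf ^ i)⁻¹ * x27 * g wf ^ i = x27 := by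
      have h3 : Commute x27 (g wf ^ i) := (show Commute x27 (g wf) from hxf).pow_right i
      rw [mul_assoc, h3.eq]
      group
    have hx2 : x = m⁻¹ * x27 * m := by
      rw [hx, hm2]
      calc (g wf ^ i * m)⁻¹ * x27 * (g wf ^ i * m) = m⁻¹ * ((g wf ^ i)⁻¹ * x27 * g wf ^ i) * m := by group
        _ = m⁻¹ * x27 * m := by rw [hfi]
    rw [hx2] at h2 ⊢
    exact hI m hm h2
  · -- type II
    rw [hy] at h2 hjy ⊢
    have hjB : j * g wy * j⁻¹ = pB := by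
      rcases hjy with hjy | hjy
      · exact absurd (hpA.trans (isConj_iff.2 ⟨j, hjy⟩ : IsConj (g wy) pA).symm) hfy
      · exact hjy
    -- `m = s⁻¹ j c` centralises `y₁`
    have hmy : (s⁻¹ * j * c) * y1 = y1 * (s⁻¹ * j * c) := by
      have h3 : (s⁻¹ * j * c) * y1 * (s⁻¹ * j * c)⁻¹ = y1 := by
        conv_lhs => rw [← hc]
        calc (s⁻¹ * j * c) * (c⁻¹ * g wy * c) * (s⁻¹ * j * c)⁻¹ = s⁻¹ * (j * g wy * j⁻¹) * s := by group
          _ = y1 := by rw [hjB, hs1]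
      exact mul_inv_eq_iff_eq_mul.1 h3
    have hmy' : (s⁻¹ * j * c)⁻¹ * y1 = y1 * (s⁻¹ * j * c)⁻¹ := by
      have : Commute (s⁻¹ * j * c) y1 := hmy
      exact this.inv_left.eq
    have hx : x = c * ((s⁻¹ * j * c)⁻¹ * (s⁻¹ * y1 * s) * (s⁻¹ * j * c)⁻¹⁻¹) * c⁻¹ := by
      rw [← hjx]
      group
    rw [hx] at h2 ⊢
    exact hII _ (hP _ hmy' _ hs2) h2

end Cfsg.Agent.H524.U33
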